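import Cfsg.Agent.S1526
import Cfsg.Agent.S2202
import Cfsg.Agent.Linear.Basic

/-!
# Simple groups with abelian centralisers

Suzuki's theorem: a simple group in which commuting is transitive on the non-identity elements has
even order, and so is `SL₂(2^f)`.
-/

set_option autoImplicit false

namespace CfsgLib.CAGroups

open Cfsg Subgroup

universe u

variable {G : Type u} [Group G]

/-- Commuting is transitive on the non-identity elements. -/
def CommTransitive (G : Type*) [Group G] : Prop :=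
  ∀ a b c : G, a ≠ 1 → b ≠ 1 → c ≠ 1 → Commute a b → Commute b c → Commute a c

theorem CommTransitive.centralizer_commutative (h : CommTransitive G) {a : G} (ha : a ≠ 1) :
    IsMulCommutative (centralizer ({a} : Set G)) := by
  refine ⟨⟨fun x y => Subtype.ext ?_⟩⟩
  by_cases hx : (x : G) = 1
  · simp [hx]
  by_cases hy : (y : G) = 1
  · simp [hy]
  exact h _ _ _ hx ha hy (mem_centralizer_singleton_iff.1 x.2) (mem_centralizer_singleton_iff.1 y.2).symm

theorem CommTransitive.centralizer_eq (h : CommTransitive G) {a b : G} (ha : a ≠ 1) (hb : b ≠ 1)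
    (hab : Commute a b) : centralizer ({a} : Set G) = centralizer {b} := by
  ext x
  simp only [mem_centralizer_singleton_iff]
  by_cases hx : x = 1
  · simp [hx]
  exact ⟨fun hxa => h x a b hx ha hb hxa hab, fun hxb => h x b a hx hb ha hxb hab.symm⟩

theorem map_conj_centralizer (g a : G) :
    (centralizer ({a} : Set G)).map (MulAut.conj g).toMonoidHom = centralizer {g * a * g⁻¹} := by
  ext x
  simp only [mem_map_equiv, mem_centralizer_singleton_iff, MulAut.conj_symm_apply]
  constructor
  · intro h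
    calc x * (g * a * g⁻¹) = g * ((g⁻¹ * x * g) * a) * g⁻¹ := by group
      _ = g * (a * (g⁻¹ * x * g)) * g⁻¹ := by rw [h]
      _ = g * a * g⁻¹ * x := by group
  · intro h
    calc g⁻¹ * x * g * a = g⁻¹ * (x * (g * a * g⁻¹)) * g := by group
      _ = g⁻¹ * (g * a * g⁻¹ * x) * g := by rw [h]
      _ = a * (g⁻¹ * x * g) := by group

theorem map_conj_centralizer' (g a : G) :
    (centralizer ({a} : Set G)).map (MulAut.conj g : G →* G) = centralizer {g * a * g⁻¹} :=
  map_conj_centralizer g a

/-- A proper subgroup has a conjugate missing some element. -/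
theorem exists_not_conj_mem [Finite G] {A : Subgroup G} (hA : A ≠ ⊤) :
    ∃ g : G, g ≠ 1 ∧ ∀ x : G, x * g * x⁻¹ ∉ A := by
  classical
  by_contra hc
  push Not at hc
  haveI := Fintype.ofFinite G
  let f : Option ((G ⧸ A) × {a : A // a ≠ 1}) → G := fun o =>
    o.elim 1 fun p => p.1.out * ((p.2 : A) : G) * p.1.out⁻¹
  have hf : Function.Surjective f := by
    intro g
    by_cases hg : g = 1
    · exact ⟨none, hg.symm⟩
    obtain ⟨x, hx⟩ := hc g hg
    obtain ⟨c, hcc⟩ := QuotientGroup.mk_out_eq_mul A x⁻¹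
    set q : G ⧸ A := ((x⁻¹ : G) : G ⧸ A)
    have hmem : q.out⁻¹ * g * q.out ∈ A := by
      rw [hcc, show (x⁻¹ * (c : G))⁻¹ * g * (x⁻¹ * c) = (c : G)⁻¹ * (x * g * x⁻¹) * c by group]
      exact A.mul_mem (A.mul_mem (A.inv_mem c.2) hx) c.2
    refine ⟨some (q, ⟨⟨_, hmem⟩, fun h => hg ?_⟩), ?_⟩
    · have h' : q.out⁻¹ * g * q.out = 1 := congrArg Subtype.val h
      calc g = q.out * (q.out⁻¹ * g * q.out) * q.out⁻¹ := by group
        _ = 1 := by rw [h']; group
    · show q.out * (q.out⁻¹ * g * q.out) * q.out⁻¹ = g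
      group
  have hcard := Nat.card_le_card_of_surjective f hf
  rw [Finite.card_option, Nat.card_prod, ← index_eq_card] at hcard
  have h1 : Nat.card {a : A // a ≠ 1} = Nat.card A - 1 := by
    rw [show Nat.card {a : A // a ≠ 1} = Nat.card ↑({(1 : A)}ᶜ : Set A) from rfl,
      Nat.card_coe_set_eq, Set.ncard_compl, Set.ncard_singleton]
  rw [h1, ← card_mul_index A, Nat.mul_sub_one, Nat.mul_comm] at hcard
  have h2 := one_lt_index_of_ne_top hA
  have h3 : A.index ≤ A.index * Nat.card A := Nat.le_mul_of_pos_right _ Nat.card_pos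
  omega

variable [Finite G]

/-- An abelian Sylow subgroup containing the `p`-elements of a centraliser. -/
theorem CommTransitive.exists_sylow_le (h : CommTransitive G) {a : G} (ha : a ≠ 1) {p : ℕ}
    [Fact p.Prime] (hp : p ∣ Nat.card (centralizer ({a} : Set G))) :
    ∃ P : Sylow p G, (P : Subgroup G) ≠ ⊥ ∧ (P : Subgroup G) ≤ centralizer {a} ∧
      ∃ w ∈ (P : Subgroup G), w ≠ 1 ∧ centralizer {w} = centralizer ({a} : Set G) := by
  obtain ⟨z, hz⟩ := exists_prime_orderOf_dvd_card' p hp
  have hz1 : (z : G) ≠ 1 := fun h1 => by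
    rw [show z = 1 from Subtype.ext h1, orderOf_one] at hz
    exact (Fact.out : p.Prime).one_lt.ne hz
  have hzp : IsPGroup p (zpowers (z : G)) :=
    IsPGroup.of_card (n := 1) (by rw [Nat.card_zpowers, orderOf_coe, hz, pow_one])
  obtain ⟨P, hzP⟩ := hzp.exists_le_sylow
  have hzP' : (z : G) ∈ (P : Subgroup G) := hzP (mem_zpowers _)
  have hPne : (P : Subgroup G) ≠ ⊥ := fun hb => hz1 (by simpa [hb] using hzP')
  haveI : Nontrivial P := (nontrivial_iff_ne_bot _).2 hPne
  haveI := P.2.center_nontrivial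
  obtain ⟨w, hw, hw1⟩ := (center P).bot_or_exists_ne_one.resolve_left
    ((nontrivial_iff_ne_bot _).1 inferInstance)
  have hw1' : (w : G) ≠ 1 := fun h1 => hw1 (Subtype.ext h1)
  have hcw : ∀ x ∈ (P : Subgroup G), Commute x (w : G) := fun x hx =>
    congrArg Subtype.val (mem_center_iff.1 hw ⟨x, hx⟩)
  have heq : centralizer ({(w : G)} : Set G) = centralizer {a} :=
    (h.centralizer_eq hz1 hw1' (hcw _ hzP')).symm.trans
      (h.centralizer_eq hz1 ha (mem_centralizer_singleton_iff.1 z.2))
  exact ⟨P, hPne, fun x hx => heq ▸ mem_centralizer_singleton_iff.2 (hcw x hx), w, w.2, hw1', heq⟩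

/-- Suzuki: there is no non-abelian simple group of odd order with abelian centralisers. -/
theorem CommTransitive.even_card (h : CommTransitive G) [IsSimpleGroup G]
    (hG : ¬ IsMulCommutative G) : Even (Nat.card G) := by
  classical
  by_contra hev
  rw [Nat.not_even_iff_odd] at hev
  have hcenter : center G = ⊥ := (inferInstance : (center G).Normal).eq_bot_or_eq_top.resolve_right
    fun ht => hG ⟨⟨fun x y => (mem_center_iff.1 (ht ▸ mem_top y) x)⟩⟩
  let 𝒜 := {A : Subgroup G // ∃ a : G, a ≠ 1 ∧ A = centralizer {a}}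
  have hTI : ∀ A : 𝒜, ∀ b ∈ A.1, b ≠ 1 → centralizer ({b} : Set G) = A.1 := by
    rintro ⟨_, a, ha, rfl⟩ b hb hb1
    exact h.centralizer_eq hb1 ha (mem_centralizer_singleton_iff.1 hb)
  have hne : ∀ A : 𝒜, A.1 ≠ ⊥ := by
    rintro ⟨_, a, ha, rfl⟩ hb
    exact ha ((eq_bot_iff_forall _).1 hb a (mem_centralizer_singleton_iff.2 rfl))
  have htop : ∀ A : 𝒜, A.1 ≠ ⊤ := by
    rintro ⟨_, a, ha, rfl⟩ ht
    have hac : a ∈ center G := mem_center_iff.2 fun x => mem_centralizer_singleton_iff.1 (ht.ge (mem_top x))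
    rw [hcenter] at hac
    exact ha (mem_bot.1 hac)
  have hself : ∀ A : 𝒜, A.1 < normalizer (A.1 : Set G) := by
    intro A
    refine lt_of_le_of_ne le_normalizer fun he => ?_
    obtain ⟨p, hp, hpd⟩ := Nat.exists_prime_and_dvd
      (fun h1 => hne A (eq_bot_of_card_eq _ h1))
    haveI := Fact.mk hp
    obtain ⟨a, ha, hAa⟩ := A.2
    rw [hAa] at hpd
    obtain ⟨P, hPne, hPA, w, hw, hw1, hwA⟩ := h.exists_sylow_le ha hpd
    have hN : normalizer ((P : Subgroup G) : Set G) ≤ centralizer ((P : Subgroup G) : Set G) := by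
      intro g hg
      have hgA : g ∈ normalizer (A.1 : Set G) := by
        rw [mem_normalizer_iff_map_conj_eq, hAa, ← hwA, map_conj_centralizer']
        refine hTI A (g * w * g⁻¹) ?_ (fun h1 => hw1 (conj_eq_one_iff.1 h1)) |>.trans (hAa.trans hwA.symm)
        exact hAa ▸ hPA ((mem_normalizer_iff.1 hg w).1 hw)
      rw [← he, hAa] at hgA
      exact mem_centralizer_iff.2 fun x hx => congrArg Subtype.val
        ((h.centralizer_commutative ha).is_comm.comm ⟨x, hPA hx⟩ ⟨g, hgA⟩)
    have hcompl := MonoidHom.ker_transferSylow_isComplement' P hN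
    rcases (inferInstance : (MonoidHom.transferSylow P hN).ker.Normal).eq_bot_or_eq_top with hb | ht
    · rw [hb, isComplement'_bot_left] at hcompl
      have hpg : IsPGroup p (⊤ : Subgroup G) := hcompl ▸ P.2
      haveI : Nontrivial (⊤ : Subgroup G) := (nontrivial_iff_ne_bot _).2 (hcompl ▸ hPne)
      haveI : Nontrivial G := IsSimpleGroup.toNontrivial
      have := (hpg.of_equiv topEquiv).center_nontrivial
      exact (nontrivial_iff_ne_bot _).1 this hcenter
    · rw [ht, isComplement'_top_left] at hcompl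
      exact hPne hcompl
  let s : Setoid 𝒜 :=
    { r := fun A B => ∃ g : G, A.1.map (MulAut.conj g).toMonoidHom = B.1
      iseqv :=
        { refl := fun A => ⟨1, by ext; simp⟩
          symm := fun {A B} ⟨g, hg⟩ => ⟨g⁻¹, by rw [← hg, Subgroup.map_map]; ext; simp [mul_assoc]⟩
          trans := fun {A B C} ⟨g, hg⟩ ⟨k, hk⟩ => ⟨k * g, by
            rw [← hk, ← hg, Subgroup.map_map]; congr 1; ext; simp [mul_assoc]⟩ } }
  let ι := Quotient s
  haveI : Fintype ι := Fintype.ofFinite ι
  let H : ι → Subgroup G := fun i => i.out.1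
  have hcover : ∀ g : G, g ≠ 1 → ∃ i, ∃ x : G, x * g * x⁻¹ ∈ H i := by
    intro g hg
    let A : 𝒜 := ⟨centralizer {g}, g, hg, rfl⟩
    obtain ⟨x, hx⟩ := Quotient.exact (Quotient.out_eq (Quotient.mk s A)).symm
    exact ⟨Quotient.mk s A, x, hx.le ⟨g, mem_centralizer_singleton_iff.2 rfl, rfl⟩⟩
  have hι : 2 ≤ Fintype.card ι := by
    by_contra hc
    push Not at hc
    haveI : Subsingleton ι := Fintype.card_le_one_iff_subsingleton.1 (by omega)
    obtain ⟨a, ha⟩ := exists_ne (1 : G)
    let i₀ : ι := Quotient.mk s ⟨centralizer {a}, a, ha, rfl⟩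
    obtain ⟨g, hg, hg'⟩ := exists_not_conj_mem (htop i₀.out)
    obtain ⟨i, x, hx⟩ := hcover g hg
    exact hg' x (Subsingleton.elim i i₀ ▸ hx)
  refine Cfsg.Agent.S1526.result hev hι (fun i => normalizer (H i : Set G)) H (fun i => hself _)
    (fun i => hne _) ?_ ?_ ?_ (fun i => ⟨?_, rfl⟩) hcover
  · intro i x hx k hk
    exact (mem_normalizer_iff.1 hx k).1 hk
  · intro i k hk hk1
    exact inf_le_right.trans (hTI i.out k hk hk1).le
  · intro i j hij
    refine Nat.coprime_of_dvd fun p hp hpi hpj => hij ?_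
    haveI := Fact.mk hp
    obtain ⟨a, ha, hAa⟩ := i.out.2
    obtain ⟨b, hb, hBb⟩ := j.out.2
    rw [show H i = centralizer {a} from hAa] at hpi
    rw [show H j = centralizer {b} from hBb] at hpj
    obtain ⟨P, -, -, w, hw, hw1, hwA⟩ := h.exists_sylow_le ha hpi
    obtain ⟨Q, -, hQB, -⟩ := h.exists_sylow_le hb hpj
    obtain ⟨g, hg⟩ := MulAction.exists_smul_eq G P Q
    have hgw : g * w * g⁻¹ ∈ (Q : Subgroup G) := hg ▸ ⟨w, hw, rfl⟩
    have he : (i.out.1).map (MulAut.conj g).toMonoidHom = j.out.1 := by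
      rw [hAa, ← hwA, map_conj_centralizer]
      exact hTI j.out _ (hBb ▸ hQB hgw) (fun h1 => hw1 (conj_eq_one_iff.1 h1))
    rw [← Quotient.out_eq i, ← Quotient.out_eq j]
    exact Quotient.sound ⟨g, he⟩
  · intro g hg x hx hgx
    by_contra hx1
    refine hg ?_
    rw [mem_normalizer_iff_map_conj_eq]
    obtain ⟨a, ha, hAa⟩ := i.out.2
    have h1 := hTI i.out x hx hx1
    have h2 := hTI i.out (g * x * g⁻¹) hgx (fun h1 => hx1 (conj_eq_one_iff.1 h1))
    show (i.out.1).map _ = i.out.1
    conv_lhs => rw [← h1]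
    rw [map_conj_centralizer', h2]

omit [Finite G] in
theorem commTransitive_congr {G' : Type*} [Group G'] (e : G ≃* G') (h : CommTransitive G) :
    CommTransitive G' := fun a b c ha hb hc hab hbc => by
  have := (h (e.symm a) (e.symm b) (e.symm c) (by simpa using ha) (by simpa using hb)
    (by simpa using hc) (hab.map e.symm) (hbc.map e.symm)).map e
  simpa using this

theorem nontrivial_simple_noncomm_of_normal_sylow [IsSimpleGroup G] (hG : ¬ IsMulCommutative G)
    (P : Sylow 2 G) (hP : (P : Subgroup G).Normal) (hev : Even (Nat.card G)) : False := by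
  haveI : Fact (Nat.Prime 2) := ⟨Nat.prime_two⟩
  rcases hP.eq_bot_or_eq_top with hb | ht
  · exact P.ne_bot_of_dvd_card (even_iff_two_dvd.1 hev) hb
  · have hpg : IsPGroup 2 G := (ht ▸ P.2 : IsPGroup 2 (⊤ : Subgroup G)).of_equiv topEquiv
    haveI : Nontrivial G := IsSimpleGroup.toNontrivial
    have := hpg.center_nontrivial
    exact hG ⟨⟨fun x y => mem_center_iff.1 (((inferInstance : (center G).Normal).eq_bot_or_eq_top.resolve_left
      ((nontrivial_iff_ne_bot _).1 this)) ▸ mem_top y) x⟩⟩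

section SL2

variable {F : Type*} [Field F] [CharP F 2]

open Matrix

/-- In characteristic two two elements commuting with a non-identity element of `SL₂` commute. -/
theorem sl2_commTransitive : CommTransitive (SpecialLinearGroup (Fin 2) F) := by
  intro X M Y _ hM _ hXM hMY
  have hX : X.1 * M.1 = M.1 * X.1 := congrArg Subtype.val hXM
  have hY : M.1 * Y.1 = Y.1 * M.1 := congrArg Subtype.val hMY
  apply Subtype.ext
  show X.1 * Y.1 = Y.1 * X.1
  have hnot : ¬ (M.1 0 1 = 0 ∧ M.1 1 0 = 0 ∧ M.1 0 0 = M.1 1 1) := by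
    rintro ⟨hb, hc, hd⟩
    apply hM
    have hdet := M.2
    rw [det_fin_two, hb, hc, ← hd] at hdet
    have h1 : (M.1 0 0 - 1) * (M.1 0 0 - 1) = 0 := by
      have h2 : (2 : F) = 0 := CharP.cast_eq_zero F 2
      linear_combination hdet - (M.1 0 0 - 1) * h2
    have ha : M.1 0 0 = 1 := sub_eq_zero.1 (mul_self_eq_zero.1 h1)
    ext i j
    fin_cases i <;> fin_cases j <;> simp [hb, hc, ha, ← hd]
  rw [← Matrix.ext_iff] at hX hY ⊢
  simp only [Fin.forall_fin_two, Matrix.mul_apply, Fin.sum_univ_two] at hX hY ⊢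
  obtain ⟨⟨x1, x2⟩, ⟨x3, x4⟩⟩ := hX
  obtain ⟨⟨y1, y2⟩, ⟨y3, y4⟩⟩ := hY
  by_cases hb : M.1 0 1 = 0
  · by_cases hc : M.1 1 0 = 0
    · have hd : M.1 0 0 - M.1 1 1 ≠ 0 := sub_ne_zero.2 fun h => hnot ⟨hb, hc, h⟩
      have hX2 : X.1 0 1 = 0 := by
        have : X.1 0 1 * (M.1 0 0 - M.1 1 1) = 0 := by linear_combination -x2 + (X.1 0 0 - X.1 1 1) * hb
        exact (mul_eq_zero.1 this).resolve_right hd
      have hX3 : X.1 1 0 = 0 := by
        have : X.1 1 0 * (M.1 0 0 - M.1 1 1) = 0 := by linear_combination x3 + (X.1 0 0 - X.1 1 1) * hc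
        exact (mul_eq_zero.1 this).resolve_right hd
      have hY2 : Y.1 0 1 = 0 := by
        have : Y.1 0 1 * (M.1 0 0 - M.1 1 1) = 0 := by linear_combination y2 + (Y.1 0 0 - Y.1 1 1) * hb
        exact (mul_eq_zero.1 this).resolve_right hd
      have hY3 : Y.1 1 0 = 0 := by
        have : Y.1 1 0 * (M.1 0 0 - M.1 1 1) = 0 := by linear_combination -y3 + (Y.1 0 0 - Y.1 1 1) * hc
        exact (mul_eq_zero.1 this).resolve_right hd
      simp only [hX2, hX3, hY2, hY3]
      refine ⟨⟨?_, ?_⟩, ?_, ?_⟩ <;> ring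
    · have g1 : X.1 0 1 * Y.1 1 0 - Y.1 0 1 * X.1 1 0 = 0 := mul_left_cancel₀ hc (by
        linear_combination Y.1 1 0 * x1 + X.1 1 0 * y1)
      have g3 : X.1 1 0 * (Y.1 0 0 - Y.1 1 1) - Y.1 1 0 * (X.1 0 0 - X.1 1 1) = 0 :=
        mul_left_cancel₀ hc (by linear_combination X.1 1 0 * y3 + Y.1 1 0 * x3)
      have g2 : (X.1 0 0 - X.1 1 1) * Y.1 0 1 - X.1 0 1 * (Y.1 0 0 - Y.1 1 1) = 0 :=
        mul_left_cancel₀ hc (by
          linear_combination -(M.1 0 1) * g3 - (X.1 0 0 - X.1 1 1) * y1 - (Y.1 0 0 - Y.1 1 1) * x1)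
      refine ⟨⟨?_, ?_⟩, ?_, ?_⟩
      · linear_combination g1
      · linear_combination g2
      · linear_combination g3
      · linear_combination -g1
  · have g1 : X.1 0 1 * Y.1 1 0 - Y.1 0 1 * X.1 1 0 = 0 := mul_left_cancel₀ hb (by
      linear_combination X.1 0 1 * y1 + Y.1 0 1 * x1)
    have g2 : (X.1 0 0 - X.1 1 1) * Y.1 0 1 - X.1 0 1 * (Y.1 0 0 - Y.1 1 1) = 0 :=
      mul_left_cancel₀ hb (by linear_combination X.1 0 1 * y2 + Y.1 0 1 * x2)
    have g3 : X.1 1 0 * (Y.1 0 0 - Y.1 1 1) - Y.1 1 0 * (X.1 0 0 - X.1 1 1) = 0 :=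
      mul_left_cancel₀ hb (by
        linear_combination -(M.1 1 0) * g2 - (X.1 0 0 - X.1 1 1) * y1 - (Y.1 0 0 - Y.1 1 1) * x1)
    refine ⟨⟨?_, ?_⟩, ?_, ?_⟩
    · linear_combination g1
    · linear_combination g2
    · linear_combination g3
    · linear_combination -g1

theorem sl2_center_eq_bot : center (SpecialLinearGroup (Fin 2) F) = ⊥ := by
  refine (eq_bot_iff_forall _).2 fun A hA => ?_
  obtain ⟨r, hr, hA⟩ := Matrix.SpecialLinearGroup.mem_center_iff.1 hA
  simp only [Fintype.card_fin] at hr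
  have h2 : (2 : F) = 0 := CharP.cast_eq_zero F 2
  have h1 : (r - 1) * (r - 1) = 0 := by linear_combination hr - (r - 1) * h2
  have : r = 1 := sub_eq_zero.1 (mul_self_eq_zero.1 h1)
  apply Subtype.ext
  rw [← hA, this]
  simp

/-- `SL₂ ≅ PSL₂` in characteristic two. -/
noncomputable def sl2EquivPSL2 :
    SpecialLinearGroup (Fin 2) F ≃* Matrix.ProjectiveSpecialLinearGroup (Fin 2) F :=
  (QuotientGroup.quotientBot (G := SpecialLinearGroup (Fin 2) F)).symm.trans
    (QuotientGroup.quotientMulEquivOfEq sl2_center_eq_bot.symm)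

end SL2

/-- Suzuki's characterisation. -/
theorem iff_psl2 [IsSimpleGroup G] (hG : ¬ IsMulCommutative G) :
    CommTransitive G ↔ ∃ (F : Type) (_ : Field F) (_ : Fintype F) (f : ℕ), 2 ≤ f ∧
      Fintype.card F = 2 ^ f ∧ Nonempty (G ≃* Matrix.ProjectiveSpecialLinearGroup (Fin 2) F) := by
  classical
  haveI : Fact (Nat.Prime 2) := ⟨Nat.prime_two⟩
  constructor
  · intro h
    have hev := h.even_card hG
    have hinv : ∀ t : G, orderOf t = 2 → IsMulCommutative (centralizer ({t} : Set G)) := fun t ht =>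
      h.centralizer_commutative fun h1 => by rw [h1, orderOf_one] at ht; omega
    obtain ⟨S⟩ : Nonempty (Sylow 2 G) := inferInstance
    rcases Cfsg.Agent.S2202.result hev hinv with hcyc | hnorm | ⟨F, iF, iFt, A, iA, iAf, hchar, hA, ⟨e⟩⟩
    · exfalso
      have hmin : (Nat.card G).minFac = 2 :=
        (Nat.minFac_eq_two_iff _).2 (even_iff_two_dvd.1 hev)
      have hcompl := IsCyclic.isComplement' hmin (hcyc S)
      rcases (inferInstance :
        (MonoidHom.transferSylow S ((hcyc S).normalizer_le_centralizer hmin)).ker.Normal).eq_bot_or_eq_top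
        with hb | ht
      · rw [hb, isComplement'_bot_left] at hcompl
        exact nontrivial_simple_noncomm_of_normal_sylow hG S (by rw [hcompl]; infer_instance) hev
      · rw [ht, isComplement'_top_left] at hcompl
        exact S.ne_bot_of_dvd_card (even_iff_two_dvd.1 hev) hcompl
    · exact absurd (nontrivial_simple_noncomm_of_normal_sylow hG S (hnorm S) hev) id
    · -- the abelian factor is trivial
      haveI : IsSimpleGroup (Matrix.SpecialLinearGroup (Fin 2) F × A) := e.symm.isSimpleGroup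
      have hA1 : Subsingleton A := by
        rcases (inferInstance :
          ((MonoidHom.fst (Matrix.SpecialLinearGroup (Fin 2) F) A).ker).Normal).eq_bot_or_eq_top with hb | ht
        · exact ⟨fun a b => by
            have h1 := (eq_bot_iff_forall _).1 hb ((1, a) : Matrix.SpecialLinearGroup (Fin 2) F × A)
              (show (1 : Matrix.SpecialLinearGroup (Fin 2) F) = 1 from rfl)
            have h2 := (eq_bot_iff_forall _).1 hb ((1, b) : Matrix.SpecialLinearGroup (Fin 2) F × A)
              (show (1 : Matrix.SpecialLinearGroup (Fin 2) F) = 1 from rfl)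
            exact (congrArg Prod.snd h1).trans (congrArg Prod.snd h2).symm⟩
        · exfalso
          apply hG
          refine ⟨⟨fun x y => e.injective ?_⟩⟩
          rw [map_mul, map_mul]
          have hx : (e x).1 = 1 := ht.ge (mem_top (e x))
          have hy : (e y).1 = 1 := ht.ge (mem_top (e y))
          exact Prod.ext (by simp [hx, hy]) (mul_comm _ _)
      haveI := hA1
      haveI : Unique A := uniqueOfSubsingleton 1
      let e' : G ≃* Matrix.ProjectiveSpecialLinearGroup (Fin 2) F :=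
        (e.trans MulEquiv.prodUnique).trans sl2EquivPSL2
      obtain ⟨⟨f, hf0⟩, -, hf⟩ := FiniteField.card F 2
      simp only [PNat.mk_coe] at hf
      refine ⟨F, iF, iFt, f, ?_, hf, ⟨e'⟩⟩
      by_contra hlt
      have hf1 : f = 1 := by omega
      subst hf1
      have hF2 : Nat.card F = 2 := by rw [Nat.card_eq_fintype_card, hf]; norm_num
      haveI : IsSimpleGroup (Matrix.SpecialLinearGroup (Fin 2) F) :=
        (e.trans MulEquiv.prodUnique).symm.isSimpleGroup
      have hcardG : Nat.card G = 6 := by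
        rw [Nat.card_congr (e.trans MulEquiv.prodUnique).toEquiv, CfsgLib.Linear.card_SL_two, hf]
        norm_num
      haveI : Fact (Nat.Prime 3) := ⟨Nat.prime_three⟩
      obtain ⟨P⟩ : Nonempty (Sylow 3 G) := inferInstance
      have h3 : Nat.card (P : Subgroup G) = 3 := by
        obtain ⟨j, hj⟩ := P.2.exists_card_eq
        have hd : 3 ∣ Nat.card G := by rw [hcardG]; norm_num
        have h1 := P.dvd_card_of_dvd_card hd
        have h2 : Nat.card (P : Subgroup G) ∣ 6 := hcardG ▸ card_subgroup_dvd_card _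
        have h4 : Nat.card (P : Subgroup G) ≤ 6 := Nat.le_of_dvd (by norm_num) h2
        rcases j with _ | _ | j
        · rw [hj] at h1; norm_num at h1
        · simpa using hj
        · rw [hj] at h4
          have : 3 ^ 2 ≤ 3 ^ (j + 1 + 1) := Nat.pow_le_pow_right (by norm_num) (by omega)
          omega
      have hidx : (P : Subgroup G).index = 2 := by
        have := card_mul_index (P : Subgroup G)
        rw [hcardG, h3] at this
        omega
      rcases (normal_of_index_eq_two hidx).eq_bot_or_eq_top with hb | ht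
      · rw [hb, card_bot] at h3; omega
      · rw [ht, index_top] at hidx; omega
  · rintro ⟨F, iF, iFt, f, hf, hcard, ⟨e⟩⟩
    haveI : CharP F 2 := charP_of_card_eq_prime_pow hcard
    exact commTransitive_congr e.symm (commTransitive_congr sl2EquivPSL2 sl2_commTransitive)

end CfsgLib.CAGroups
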